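import Groth.Agent.GrTildeGenLib.Phi
import Groth.Agent.GrTildeLib.Gamma

/-!
# Extending sections from a chart
-/

set_option autoImplicit false
set_option backward.isDefEq.respectTransparency false
set_option backward.isDefEq.respectTransparency.types false
universe u

open CategoryTheory CategoryTheory.Limits AlgebraicGeometry TopologicalSpace Opposite TopCat HomogeneousLocalization
open AmpleLib GrTildeLib

noncomputable section

namespace GrTildeGen

variable {R A : Type u} [CommRing R] [CommRing A] [Algebra R A] {𝒜 : ℕ → Submodule R A} [GradedAlgebra 𝒜] {d : ℕ}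
  (hd : 0 < d) {ι : Type u} {g : ι → A} (hg : ∀ i, g i ∈ 𝒜 d) (F : (Proj 𝒜).Modules) [Finite ι] [Coh.IsQCoh F]

include hd

omit [Finite ι] in
theorem basicOpen_res_fr (h i : ι) {U : (Proj 𝒜).Opens} (hU : U ≤ Proj.basicOpen 𝒜 (g h)) :
    (Proj 𝒜).basicOpen (resX hU (fr 𝒜 (hg h) (mem_one_mul 𝒜 (hg i)))) = U ⊓ Proj.basicOpen 𝒜 (g i) := by
  rw [resX, Scheme.basicOpen_res, basicOpen_fr 𝒜 (hg h) hd, ← inf_assoc, inf_eq_left.mpr hU]

/-- extending a section on a chart -/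
theorem exists_extension (i : ι) (τ : Γ(F, Proj.basicOpen 𝒜 (g i))) :
    ∃ (k : ℕ) (σ : ∀ h, Γ(F, Proj.basicOpen 𝒜 (g h))), Compat hg F k σ ∧ σ i = τ := by
  classical
  let := Fintype.ofFinite ι
  have hD : ∀ h, IsAffineOpen (Proj.basicOpen 𝒜 (g h)) := fun h => Proj.isAffineOpen_basicOpen 𝒜 _ (hg h) hd
  let r := fun h => fr 𝒜 (hg h) (mem_one_mul 𝒜 (hg i))
  have hbo : ∀ h, (Proj 𝒜).basicOpen (r h) = Proj.basicOpen 𝒜 (g h) ⊓ Proj.basicOpen 𝒜 (g i) :=
    fun h => basicOpen_fr 𝒜 (hg h) hd (mem_one_mul 𝒜 (hg i))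
  have hle : ∀ h, (Proj 𝒜).basicOpen (r h) ≤ Proj.basicOpen 𝒜 (g i) := fun h => (hbo h).le.trans inf_le_right
  choose p τ₁ hτ₁ using fun h => (QCohLib.localizingAt_of_isQCoh (hD h) F (r h)).exists_extend (res F (hle h) τ)
  let P := Finset.univ.sup p
  let τ' : ∀ h, Γ(F, Proj.basicOpen 𝒜 (g h)) := fun h => r h ^ (P - p h) • τ₁ h
  have hτ' : ∀ (h : ι) (V : (Proj 𝒜).Opens) (h1 : V ≤ Proj.basicOpen 𝒜 (g h)) (h2 : V ≤ Proj.basicOpen 𝒜 (g i)),
      res F h1 (τ' h) = resX h1 (r h) ^ P • res F h2 τ := by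
    intro h V h1 h2
    have hV : V ≤ (Proj 𝒜).basicOpen (r h) := (le_inf h1 h2).trans (hbo h).ge
    have e := congrArg (res F hV) (hτ₁ h)
    rw [res_smul, map_pow] at e
    change res F hV (res F _ (τ₁ h)) = resX hV (resX _ (r h)) ^ p h • res F hV (res F _ τ) at e
    rw [res_res, res_res, resX_resX] at e
    rw [res_smul, map_pow, e, ← mul_smul]
    change (resX h1 (r h) ^ (P - p h) * resX _ (r h) ^ p h) • _ = _
    rw [← pow_add, Nat.sub_add_cancel (Finset.le_sup (Finset.mem_univ h))]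
  clear_value τ'
  have hl : ∀ h h' : ι, Proj.basicOpen 𝒜 (g h) ⊓ Proj.basicOpen 𝒜 (g h') ≤ Proj.basicOpen 𝒜 (g h) :=
    fun _ _ => inf_le_left
  have hr' : ∀ h h' : ι, Proj.basicOpen 𝒜 (g h) ⊓ Proj.basicOpen 𝒜 (g h') ≤ Proj.basicOpen 𝒜 (g h') :=
    fun _ _ => inf_le_right
  have hq : ∀ h h' : ι, ∃ q : ℕ, resX (hl h h') (r h) ^ q •
      (res F (hl h h') (τ' h) - resX (hl h h') (fr 𝒜 (hg h) (mem_one_mul 𝒜 (hg h'))) ^ P •
        res F (hr' h h') (τ' h')) = 0 := by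
    intro h h'
    let U := Proj.basicOpen 𝒜 (g h) ⊓ Proj.basicOpen 𝒜 (g h')
    have hUa : IsAffineOpen U := by
      have := (hD h).basicOpen (fr 𝒜 (hg h) (mem_one_mul 𝒜 (hg h')))
      rwa [basicOpen_fr 𝒜 (hg h) hd] at this
    let c := resX (inf_le_left : U ≤ _) (r h)
    have hc : (Proj 𝒜).basicOpen c ≤ U ⊓ Proj.basicOpen 𝒜 (g i) := (basicOpen_res_fr hd hg h i inf_le_left).le
    have hc1 : (Proj 𝒜).basicOpen c ≤ U := (Proj 𝒜).basicOpen_le c
    have hci : (Proj 𝒜).basicOpen c ≤ Proj.basicOpen 𝒜 (g i) := hc.trans inf_le_right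
    obtain ⟨q, hq⟩ := (QCohLib.localizingAt_of_isQCoh hUa F c).eq_zero
      (res F (hl h h') (τ' h) - resX (hl h h') (fr 𝒜 (hg h) (mem_one_mul 𝒜 (hg h'))) ^ P •
        res F (hr' h h') (τ' h')) (by
      rw [map_sub, sub_eq_zero]
      change res F hc1 (res F _ (τ' h)) = res F hc1 (_ • res F _ (τ' h'))
      rw [res_smul, res_res, res_res, map_pow, hτ' h _ _ hci, hτ' h' _ _ hci, smul_smul, ← mul_pow]
      change _ = (resX hc1 (resX _ _) * _) ^ P • _
      rw [resX_resX]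
      refine congrArg (fun z => z ^ P • _) ?_
      refine (fr_change 𝒜 (hg h') (hg h) (mem_one_mul 𝒜 (hg i)) (hc1.trans inf_le_left) (hc1.trans inf_le_right)).trans ?_
      rw [pow_one])
    refine ⟨q, ?_⟩
    simp only [homOfLE_refl, op_id, CategoryTheory.Functor.map_id] at hq
    exact hq
  choose q hq using hq
  let Q := Finset.univ.sup fun z : ι × ι => q z.1 z.2
  let σ : ∀ h, Γ(F, Proj.basicOpen 𝒜 (g h)) := fun h => r h ^ Q • τ' h
  refine ⟨Q + P, σ, fun h h' V hi hj => ?_, ?_⟩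
  · have e := congrArg (fun z => resX (inf_le_left : Proj.basicOpen 𝒜 (g h) ⊓ Proj.basicOpen 𝒜 (g h') ≤ _) (r h) ^
      (Q - q h h') • z) (hq h h')
    simp only [← mul_smul, ← pow_add, smul_zero] at e
    rw [Nat.sub_add_cancel (Finset.le_sup (f := fun z : ι × ι => q z.1 z.2) (Finset.mem_univ (h, h')))] at e
    have e' := congrArg (res F (le_inf hi hj)) e
    rw [res_smul, map_pow] at e'
    simp only [map_sub, map_zero] at e'
    rw [smul_sub] at e'
    change resX _ (resX _ (r h)) ^ Q • (res F (le_inf hi hj) (res F _ (τ' h))) -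
      resX _ (resX _ (r h)) ^ Q • res F (le_inf hi hj) (_ ^ P • res F _ (τ' h')) = 0 at e'
    rw [resX_resX, res_res, res_smul, res_res, map_pow, sub_eq_zero] at e'
    change _ = _ • (resX _ (resX _ _)) ^ P • _ at e'
    rw [resX_resX] at e'
    change res F hi (r h ^ Q • τ' h) = _ • res F hj (r h' ^ Q • τ' h')
    rw [res_smul, res_smul, map_pow, map_pow]
    change resX hi (r h) ^ Q • _ = _ • resX hj (r h') ^ Q • _
    rw [e']
    rw [show resX hi (r h) = resX hi (fr 𝒜 (hg h) (mem_one_mul 𝒜 (hg h'))) ^ 1 * resX hj (r h') from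
      fr_change 𝒜 (hg h') (hg h) (mem_one_mul 𝒜 (hg i)) hi hj]
    rw [smul_smul, smul_smul, pow_one, mul_pow, pow_add]
    exact congrArg (· • _) (mul_right_comm _ _ _)
  · change r i ^ Q • τ' i = τ
    have hr : r i = 1 :=
      (fr_congr 𝒜 (hg i) rfl (pow_one (g i)).symm _ (pow_mem_mul 𝒜 (hg i) 1)).trans (fr_one 𝒜 (hg i) _)
    have e := hτ' i _ le_rfl le_rfl
    rw [res_refl, res_refl, hr, resX, map_one, one_pow, one_smul] at e
    rw [hr, one_pow, one_smul, e]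

/-- a compatible family vanishing on a chart is killed by a power of its equation -/
theorem exists_pow_fr_smul_eq_zero {k : ℕ} {σ : ∀ h, Γ(F, Proj.basicOpen 𝒜 (g h))} (hσ : Compat hg F k σ)
    (i : ι) (h0 : σ i = 0) :
    ∃ N : ℕ, ∀ h, fr 𝒜 (hg h) (pow_mem_mul 𝒜 (hg i) N) • σ h = 0 := by
  classical
  let := Fintype.ofFinite ι
  have hN : ∀ h, ∃ N : ℕ, fr 𝒜 (hg h) (mem_one_mul 𝒜 (hg i)) ^ N • σ h = 0 := by
    intro h
    obtain ⟨N, hN⟩ := (QCohLib.localizingAt_of_isQCoh (Proj.isAffineOpen_basicOpen 𝒜 _ (hg h) hd) F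
      (fr 𝒜 (hg h) (mem_one_mul 𝒜 (hg i)))).eq_zero (σ h) (by
        have hle : (Proj 𝒜).basicOpen (fr 𝒜 (hg h) (mem_one_mul 𝒜 (hg i))) ≤ Proj.basicOpen 𝒜 (g i) :=
          (basicOpen_fr 𝒜 (hg h) hd (mem_one_mul 𝒜 (hg i))).le.trans inf_le_right
        have e := hσ h i _ ((Proj 𝒜).basicOpen_le _) hle
        rw [h0] at e
        simp only [res, map_zero, smul_zero] at e
        exact e)
    refine ⟨N, ?_⟩
    simp only [homOfLE_refl, op_id, CategoryTheory.Functor.map_id] at hN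
    exact hN
  choose N hN using hN
  refine ⟨Finset.univ.sup N, fun h => ?_⟩
  rw [fr_pow 𝒜 (hg h) (hg i), ← Nat.sub_add_cancel (Finset.le_sup (f := N) (Finset.mem_univ h)),
    pow_add, mul_smul, hN, smul_zero]

/-- extending at a given level -/
theorem exists_extension_of_le (i : ι) (τ : Γ(F, Proj.basicOpen 𝒜 (g i))) :
    ∃ K₀ : ℕ, ∀ K, K₀ ≤ K → ∃ σ : ∀ h, Γ(F, Proj.basicOpen 𝒜 (g h)), Compat hg F K σ ∧ σ i = τ := by
  obtain ⟨k, σ, hσ, hi⟩ := exists_extension hd hg F i τ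
  refine ⟨k, fun K hK => ⟨fun h => fr 𝒜 (hg h) (pow_mem_mul 𝒜 (hg i) (K - k)) • σ h,
    hσ.frSmul (Nat.sub_add_cancel hK) _, ?_⟩⟩
  change fr 𝒜 (hg i) (pow_mem_mul 𝒜 (hg i) (K - k)) • σ i = τ
  rw [fr_one, one_smul, hi]

end GrTildeGen

end
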