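import Groth.Agent.GrTildeGenLib.Frac
import Groth.Agent.GrTildeLib.Phi

/-!
# Compatible families on the charts of degree `d`
-/

set_option autoImplicit false
set_option backward.isDefEq.respectTransparency false
set_option backward.isDefEq.respectTransparency.types false
universe u

open CategoryTheory CategoryTheory.Limits AlgebraicGeometry TopologicalSpace Opposite TopCat HomogeneousLocalization
open AmpleLib GrTildeLib

noncomputable section

namespace GrTildeGen

variable {R A : Type u} [CommRing R] [CommRing A] [Algebra R A] {𝒜 : ℕ → Submodule R A} [GradedAlgebra 𝒜] {d : ℕ}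

/-- a family of sections on the charts which glue to a section of the `k`-th twist -/
def Compat {ι : Type*} {g : ι → A} (hg : ∀ i, g i ∈ 𝒜 d) (F : (Proj 𝒜).Modules) (k : ℕ)
    (σ : ∀ i, Γ(F, Proj.basicOpen 𝒜 (g i))) : Prop :=
  ∀ (i j : ι) (V : (Proj 𝒜).Opens) (hi : V ≤ Proj.basicOpen 𝒜 (g i)) (hj : V ≤ Proj.basicOpen 𝒜 (g j)),
    res F hi (σ i) = resX hi (fr 𝒜 (hg i) (mem_one_mul 𝒜 (hg j))) ^ k • res F hj (σ j)

variable {ι : Type*} {g : ι → A} {hg : ∀ i, g i ∈ 𝒜 d} {F : (Proj 𝒜).Modules}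

theorem compat_zero (k : ℕ) : Compat hg F k 0 := fun i j V hi hj => by
  simp only [Pi.zero_apply, res, map_zero, smul_zero]

theorem Compat.add {k : ℕ} {σ τ : ∀ i, Γ(F, Proj.basicOpen 𝒜 (g i))} (hσ : Compat hg F k σ)
    (hτ : Compat hg F k τ) : Compat hg F k (σ + τ) := fun i j V hi hj => by
  simp only [Pi.add_apply, res, map_add, smul_add]
  exact congr_arg₂ (· + ·) (hσ i j V hi hj) (hτ i j V hi hj)

theorem Compat.sum {k : ℕ} {J : Type*} (s : Finset J) (σ : J → ∀ i, Γ(F, Proj.basicOpen 𝒜 (g i)))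
    (hσ : ∀ j ∈ s, Compat hg F k (σ j)) : Compat hg F k (fun i => ∑ j ∈ s, σ j i) := by
  classical
  induction s using Finset.induction_on with
  | empty => intro i j V hi hj; simp only [Finset.sum_empty, res, map_zero, smul_zero]
  | insert a s has ih =>
    simp only [Finset.sum_insert has]
    exact (hσ a (Finset.mem_insert_self a s)).add (ih fun j hj => hσ j (Finset.mem_insert_of_mem hj))

theorem Compat.frSmul {l k m : ℕ} (hm : l + k = m) {a : A} (ha : a ∈ 𝒜 (l * d))
    {σ : ∀ i, Γ(F, Proj.basicOpen 𝒜 (g i))} (hσ : Compat hg F k σ) :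
    Compat hg F m fun i => fr 𝒜 (hg i) ha • σ i := by
  subst hm
  intro i j V hi hj
  rw [res_smul, res_smul, hσ i j V hi hj, smul_smul, smul_smul, pow_add]
  change (resX hi _ * _) • _ = (_ * resX hj _) • _
  rw [show resX hi (fr 𝒜 (hg i) ha) =
    resX hi (fr 𝒜 (hg i) (mem_one_mul 𝒜 (hg j))) ^ l * resX hj (fr 𝒜 (hg j) ha) from
    fr_change 𝒜 (hg j) (hg i) ha hi hj]
  exact congrArg (· • _) (mul_right_comm _ _ _)

variable (hg F) in
/-- a graded module mapped to the twisted sections of `F` -/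
structure GrData {M : Type u} [AddCommGroup M] [Module R M] [Module A M] (ℳ : ℕ → Submodule R M) where
  /-- the family attached to a homogeneous element -/
  ν : ∀ k : ℕ, ℳ (k * d) →+ ∀ i, Γ(F, Proj.basicOpen 𝒜 (g i))
  compat : ∀ (k : ℕ) (z : ℳ (k * d)), Compat hg F k (ν k z)
  smul : ∀ (l k : ℕ) (a : A) (ha : a ∈ 𝒜 (l * d)) (z : ℳ (k * d)) (h : a • (z : M) ∈ ℳ ((l + k) * d)) (i : ι),
    ν (l + k) ⟨a • (z : M), h⟩ i = fr 𝒜 (hg i) ha • ν k z i

end GrTildeGen

end
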