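import Groth.Agent.GrTildeLib.Chart
import Groth.Agent.QCohLib.Vanishing

/-!
# Fractions on the charts of `Proj` given by elements of a fixed degree `d`
-/

set_option autoImplicit false
set_option backward.isDefEq.respectTransparency false
set_option backward.isDefEq.respectTransparency.types false
universe u

open CategoryTheory CategoryTheory.Limits AlgebraicGeometry TopologicalSpace Opposite TopCat
open HomogeneousLocalization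

noncomputable section

namespace GrTildeGen

variable {R A : Type u} [CommRing R] [CommRing A] [Algebra R A] (𝒜 : ℕ → Submodule R A) [GradedAlgebra 𝒜] {d : ℕ}

/-- `a / g^k` on `D₊(g)` -/
def fr {g : A} (hg : g ∈ 𝒜 d) {k : ℕ} {a : A} (ha : a ∈ 𝒜 (k * d)) : Γ(Proj 𝒜, Proj.basicOpen 𝒜 g) :=
  Proj.awayToSection 𝒜 g (Away.mk 𝒜 hg k a (by rwa [smul_eq_mul]))

variable {g : A} (hg : g ∈ 𝒜 d)

lemma fr_surjective (hd : 0 < d) (y : Γ(Proj 𝒜, Proj.basicOpen 𝒜 g)) :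
    ∃ (k : ℕ) (a : A) (ha : a ∈ 𝒜 (k * d)), fr 𝒜 hg ha = y := by
  have : IsIso (Proj.awayToSection 𝒜 g) := by
    rw [← Proj.basicOpenIsoAway_hom 𝒜 g hg hd]
    infer_instance
  obtain ⟨z, rfl⟩ := (ConcreteCategory.bijective_of_isIso (Proj.awayToSection 𝒜 g)).2 y
  obtain ⟨k, a, ha, rfl⟩ := Away.mk_surjective 𝒜 hg z
  exact ⟨k, a, by rwa [smul_eq_mul] at ha, rfl⟩

lemma fr_add {k : ℕ} {a b : A} (ha : a ∈ 𝒜 (k * d)) (hb : b ∈ 𝒜 (k * d)) :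
    fr 𝒜 hg (add_mem ha hb) = fr 𝒜 hg ha + fr 𝒜 hg hb := by
  rw [fr, fr, fr, ← map_add]
  congr 1
  apply HomogeneousLocalization.val_injective
  simp only [HomogeneousLocalization.val_add, Away.val_mk, Localization.add_mk_self]

lemma fr_zero (k : ℕ) : fr 𝒜 hg (zero_mem (𝒜 (k * d))) = 0 := by
  rw [fr]
  refine Eq.trans (congrArg _ ?_) (map_zero (Proj.awayToSection 𝒜 g).hom)
  apply HomogeneousLocalization.val_injective
  simp only [HomogeneousLocalization.val_zero, Away.val_mk, Localization.mk_zero]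

lemma fr_mul {k l : ℕ} {a b : A} (ha : a ∈ 𝒜 (k * d)) (hb : b ∈ 𝒜 (l * d)) (hab : a * b ∈ 𝒜 ((k + l) * d)) :
    fr 𝒜 hg hab = fr 𝒜 hg ha * fr 𝒜 hg hb := by
  rw [fr, fr, fr, ← map_mul]
  congr 1
  apply HomogeneousLocalization.val_injective
  simp only [HomogeneousLocalization.val_mul, Away.val_mk, Localization.mk_mul]
  congr 1
  exact Subtype.ext (pow_add g k l)

lemma fr_one {k : ℕ} (h : g ^ k ∈ 𝒜 (k * d)) : fr 𝒜 hg h = 1 := by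
  rw [fr]
  refine Eq.trans (congrArg _ ?_) (map_one (Proj.awayToSection 𝒜 g).hom)
  apply HomogeneousLocalization.val_injective
  simp only [HomogeneousLocalization.val_one, Away.val_mk]
  exact Localization.mk_self (⟨g ^ k, ⟨k, rfl⟩⟩ : Submonoid.powers g)

lemma fr_congr {k l : ℕ} {a b : A} (hkl : k = l) (e : a = b) (ha : a ∈ 𝒜 (k * d)) (hb : b ∈ 𝒜 (l * d)) :
    fr 𝒜 hg ha = fr 𝒜 hg hb := by subst e; subst hkl; rfl

omit hg in
lemma pow_mem_mul {b : A} (hb : b ∈ 𝒜 d) (k : ℕ) : b ^ k ∈ 𝒜 (k * d) := by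
  simpa [smul_eq_mul] using SetLike.pow_mem_graded k hb

omit hg in
lemma mul_mem_mul {k l : ℕ} {a b : A} (ha : a ∈ 𝒜 (k * d)) (hb : b ∈ 𝒜 (l * d)) :
    a * b ∈ 𝒜 ((k + l) * d) := by
  rw [add_mul]; exact SetLike.mul_mem_graded ha hb

omit hg in
lemma mem_one_mul {b : A} (hb : b ∈ 𝒜 d) : b ∈ 𝒜 (1 * d) := by rwa [one_mul]

lemma fr_pow {b : A} (hb : b ∈ 𝒜 d) : ∀ (k : ℕ) (h : b ^ k ∈ 𝒜 (k * d)),
    fr 𝒜 hg h = fr 𝒜 hg (mem_one_mul 𝒜 hb) ^ k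
  | 0, h => by
    have h1 : g ^ 0 ∈ 𝒜 (0 * d) := pow_mem_mul 𝒜 hg 0
    exact (fr_congr 𝒜 hg rfl ((pow_zero b).trans (pow_zero g).symm) h h1).trans
      ((fr_one 𝒜 hg h1).trans (pow_zero _).symm)
  | k + 1, h => by
    have hk : b ^ k ∈ 𝒜 (k * d) := pow_mem_mul 𝒜 hb k
    refine (fr_congr 𝒜 hg rfl (pow_succ b k) h (mul_mem_mul 𝒜 hk (mem_one_mul 𝒜 hb))).trans ?_
    rw [fr_mul 𝒜 hg hk (mem_one_mul 𝒜 hb), fr_pow hb k hk, pow_succ]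

/-- the value of a fraction -/
lemma val_fr {k : ℕ} {a : A} (ha : a ∈ 𝒜 (k * d)) {W : (Proj 𝒜).Opens}
    (hW : W ≤ Proj.basicOpen 𝒜 g) (x : W) :
    ((show Twist.O (𝒜 := 𝒜) (op W) from (Proj 𝒜).presheaf.map (homOfLE hW).op (fr 𝒜 hg ha)).1 x).val =
      Localization.mk a ⟨g ^ k, GrTildeLib.pow_nin ⟨x.1, hW x.2⟩ k⟩ :=
  GrTildeLib.val_awayToSection hg _ ⟨x.1, hW x.2⟩

/-- change of chart -/
lemma fr_change {h : A} (hh : h ∈ 𝒜 d) {k : ℕ} {a : A} (ha : a ∈ 𝒜 (k * d)) {W : (Proj 𝒜).Opens}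
    (hWh : W ≤ Proj.basicOpen 𝒜 h) (hWg : W ≤ Proj.basicOpen 𝒜 g) :
    (Proj 𝒜).presheaf.map (homOfLE hWh).op (fr 𝒜 hh ha) =
      (Proj 𝒜).presheaf.map (homOfLE hWh).op (fr 𝒜 hh (mem_one_mul 𝒜 hg)) ^ k *
        (Proj 𝒜).presheaf.map (homOfLE hWg).op (fr 𝒜 hg ha) := by
  have hgk : g ^ k ∈ 𝒜 (k * d) := pow_mem_mul 𝒜 hg k
  rw [← map_pow, ← fr_pow 𝒜 hh hg k hgk]
  refine Subtype.ext (funext fun x => HomogeneousLocalization.val_injective _ ?_)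
  refine (val_fr 𝒜 hh ha hWh x).trans ?_
  refine Eq.trans ?_ (HomogeneousLocalization.val_mul _ _).symm
  refine Eq.trans ?_ (congr_arg₂ (· * ·) (val_fr 𝒜 hh hgk hWh x).symm (val_fr 𝒜 hg ha hWg x).symm)
  rw [Localization.mk_mul, Localization.mk_eq_mk_iff, Localization.r_iff_exists]
  refine ⟨1, ?_⟩
  simp only [OneMemClass.coe_one, Submonoid.coe_mul, one_mul]
  ring

/-- where `b / g^k` is invertible -/
lemma basicOpen_fr (hd : 0 < d) {k : ℕ} {b : A} (hb : b ∈ 𝒜 (k * d)) :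
    (Proj 𝒜).basicOpen (fr 𝒜 hg hb) = Proj.basicOpen 𝒜 g ⊓ Proj.basicOpen 𝒜 b := by
  rw [fr, GrTildeLib.basicOpen_awayToSection hg hd, Proj.basicOpen_mul]

lemma isUnit_fr (hd : 0 < d) {k : ℕ} {a : A} (ha : a ∈ 𝒜 (k * d)) {W : (Proj 𝒜).Opens}
    (hW : W ≤ Proj.basicOpen 𝒜 g) (hnin : ∀ x : W, a ∉ x.1.asHomogeneousIdeal) :
    IsUnit ((Proj 𝒜).presheaf.map (homOfLE hW).op (fr 𝒜 hg ha)) := by
  refine QCohLib.isUnit_res _ ?_
  rw [basicOpen_fr 𝒜 hg hd]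
  exact fun x hx => ⟨hW hx, hnin ⟨x, hx⟩⟩

end GrTildeGen

end
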