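import Groth.Agent.GrTildeGenLib.Model
import Groth.Agent.ProjCohTwLib.Main

/-!
# Coherent modules on `Proj` come from finite graded modules
-/

set_option autoImplicit false
set_option backward.isDefEq.respectTransparency false
set_option backward.isDefEq.respectTransparency.types false
universe u

open CategoryTheory CategoryTheory.Limits AlgebraicGeometry TopologicalSpace Opposite TopCat HomogeneousLocalization
open AmpleLib GrTildeLib

noncomputable section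

namespace GrTildeGen

variable {R A : Type u} [CommRing R] [CommRing A] [Algebra R A] {𝒜 : ℕ → Submodule R A} [GradedAlgebra 𝒜] {d : ℕ}
  {ι : Type u} {g : ι → A} {hg : ∀ i, g i ∈ 𝒜 d} {F : (Proj 𝒜).Modules}
  {J : Type u} [Fintype J] {K : ℕ} (σ : J → ∀ i, Γ(F, Proj.basicOpen 𝒜 (g i)))

variable (hg) in
/-- evaluation on the quotient by the relations -/
def qeval (k : ℕ) (i : ι) : ((J → A) ⧸ rel hg σ) →+ Γ(F, Proj.basicOpen 𝒜 (g i)) :=
  QuotientAddGroup.lift (rel hg σ).toAddSubgroup (eval hg σ k i) fun _ ha => eval_eq_zero_of_mem_rel σ ha k i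

theorem qeval_mk (k : ℕ) (i : ι) (a : J → A) : qeval hg σ k i ((rel hg σ).mkQ a) = eval hg σ k i a := rfl

variable (hg) in
/-- the family attached to a homogeneous element -/
def fam (m : ℕ) : quotGr 𝒜 J (K * d) (rel hg σ) (m * d) →+ ∀ i, Γ(F, Proj.basicOpen 𝒜 (g i)) :=
  if K ≤ m then AddMonoidHom.mk' (fun z i => qeval hg σ (m - K) i (z : (J → A) ⧸ rel hg σ))
    (fun z w => funext fun i => by rw [Submodule.coe_add, map_add]; rfl)
  else 0

theorem exists_rep_quot {n : ℕ} (z : quotGr 𝒜 J (K * d) (rel hg σ) n) :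
    ∃ a, a ∈ freeGr 𝒜 J (K * d) n ∧ (rel hg σ).mkQ a = z := by
  obtain ⟨_, a, ha, rfl⟩ := z
  exact ⟨a, ha, rfl⟩

theorem fam_apply {m : ℕ} (h : K ≤ m) (z : quotGr 𝒜 J (K * d) (rel hg σ) (m * d)) {a : J → A}
    (ha : (rel hg σ).mkQ a = z) (i : ι) : fam hg σ m z i = eval hg σ (m - K) i a := by
  rw [fam, if_pos h, AddMonoidHom.mk'_apply, ← ha, qeval_mk]

theorem fam_of_not_le {m : ℕ} (h : ¬ K ≤ m) (z : quotGr 𝒜 J (K * d) (rel hg σ) (m * d)) :
    fam hg σ m z = 0 := by rw [fam, if_neg h]; rfl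

theorem eq_zero_of_not_le (hd : 0 < d) {m : ℕ} (h : ¬ K ≤ m)
    (z : quotGr 𝒜 J (K * d) (rel hg σ) (m * d)) : (z : (J → A) ⧸ rel hg σ) = 0 := by
  obtain ⟨a, ha, hz⟩ := exists_rep_quot σ z
  rw [← hz, ((mem_freeGr 𝒜 J (K * d)).mp ha).2 (fun hle => h (Nat.le_of_mul_le_mul_right hle hd)), map_zero]

theorem sub_mul_le {m : ℕ} (h : K ≤ m) {a : J → A} (ha : a ∈ freeGr 𝒜 J (K * d) (m * d)) (j : J) :
    a j ∈ 𝒜 ((m - K) * d) := by
  rw [Nat.sub_mul]
  exact ((mem_freeGr 𝒜 J (K * d)).mp ha).1 (Nat.mul_le_mul_right d h) j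

variable (hσ : ∀ j, Compat hg F K (σ j))

include hσ in
theorem compat_eval {m k : ℕ} (hm : k + K = m) {a : J → A} (ha : ∀ j, a j ∈ 𝒜 (k * d)) :
    Compat hg F m fun i => eval hg σ k i a := by
  have e : (fun i => eval hg σ k i a) = fun i => ∑ j, fr 𝒜 (hg i) (ha j) • σ j i :=
    funext fun i => eval_of_mem σ ha i
  rw [e]
  exact Compat.sum _ _ fun j _ => (hσ j).frSmul hm (ha j)

/-- the twisted sections of the quotient -/
def data (hd : 0 < d) : GrData hg F (quotGr 𝒜 J (K * d) (rel hg σ)) where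
  ν := fam hg σ
  compat m z := by
    by_cases h : K ≤ m
    · obtain ⟨a, ha, hz⟩ := exists_rep_quot σ z
      rw [show fam hg σ m z = fun i => eval hg σ (m - K) i a from funext (fam_apply σ h z hz)]
      exact compat_eval σ hσ (Nat.sub_add_cancel h) (sub_mul_le h ha)
    · rw [fam_of_not_le σ h]; exact compat_zero m
  smul l m b hb z h' i := by
    by_cases h : K ≤ m
    · obtain ⟨a, ha, hz⟩ := exists_rep_quot σ z
      rw [fam_apply σ h z hz, fam_apply σ (h.trans (Nat.le_add_left m l)) _ (a := b • a)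
        (by rw [map_smul, hz])]
      exact eval_smul σ (by omega) hb a i
    · have hz := eq_zero_of_not_le σ hd h z
      have e0 : (⟨b • (z : (J → A) ⧸ rel hg σ), h'⟩ : quotGr 𝒜 J (K * d) (rel hg σ) ((l + m) * d)) = 0 :=
        Subtype.ext (by change b • (z : (J → A) ⧸ rel hg σ) = 0; rw [hz, smul_zero])
      rw [e0, map_zero, fam_of_not_le σ h, Pi.zero_apply, smul_zero]

variable [Finite ι] [Coh.IsQCoh F]

include hσ in
theorem exists_pow_smul_eq_zero_of_eval (hd : 0 < d) {k : ℕ} {a : J → A} (ha : ∀ j, a j ∈ 𝒜 (k * d)) (i : ι)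
    (h0 : eval hg σ k i a = 0) : ∃ N : ℕ, g i ^ N • a ∈ rel hg σ := by
  obtain ⟨N, hN⟩ := exists_pow_fr_smul_eq_zero hd hg F (compat_eval σ hσ rfl ha) i h0
  refine ⟨N, fun b k' h => ?_⟩
  have hga : ∀ j, g i ^ N * a j ∈ 𝒜 ((N + k) * d) := fun j => mul_mem_mul 𝒜 (pow_mem_mul 𝒜 (hg i) N) (ha j)
  by_cases hle : (N + k) * d ≤ k' * d
  · obtain ⟨l, rfl⟩ := Nat.le.dest (Nat.le_of_mul_le_mul_right hle hd)
    have key : eval hg σ (N + k + l) h (b • g i ^ N • a) =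
        eval hg σ (N + k + l) h (pr 𝒜 (l * d) b • g i ^ N • a) := by
      refine Finset.sum_congr rfl fun j _ => congrArg (· • _) (fr_congr 𝒜 (hg h) rfl ?_ _ _)
      change pr 𝒜 ((N + k + l) * d) (b * (g i ^ N * a j)) = pr 𝒜 ((N + k + l) * d) (pr 𝒜 (l * d) b * (g i ^ N * a j))
      rw [pr_mul_of_le 𝒜 (hga j) hle, pr_mul_of_le 𝒜 (hga j) hle,
        show (N + k + l) * d - (N + k) * d = l * d by rw [add_mul (N + k) l, Nat.add_sub_cancel_left],
        pr_self 𝒜 (pr_mem 𝒜 (l * d) b)]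
    rw [key, eval_smul σ (show l + (N + k) = N + k + l by omega) (pr_mem 𝒜 (l * d) b),
      eval_smul σ rfl (pow_mem_mul 𝒜 (hg i) N)]
    exact (congrArg _ (hN h)).trans (smul_zero _)
  · refine eval_eq_zero_of_forall σ (fun j => ?_) h
    change pr 𝒜 (k' * d) (b * (g i ^ N * a j)) = 0
    exact pr_mul_of_not_le 𝒜 (hga j) hle b

include hσ in
theorem nonempty_iso (hd : 0 < d) (hcov : ∀ x : Proj 𝒜, ∃ i, x ∈ Proj.basicOpen 𝒜 (g i))
    [DirectSum.Decomposition (quotGr 𝒜 J (K * d) (rel hg σ))]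
    (hgen : ∀ i, Submodule.span Γ(Proj 𝒜, Proj.basicOpen 𝒜 (g i)) (Set.range fun j => σ j i) = ⊤) :
    Nonempty (GrTilde.tilde 𝒜 (quotGr 𝒜 J (K * d) (rel hg σ)) 0 ≅ F) := by
  classical
  refine exists_iso (data σ hσ hd) hd hcov (fun m z i h0 => ?_) fun i => ?_
  · by_cases h : K ≤ m
    · obtain ⟨a, ha, hz⟩ := exists_rep_quot σ z
      obtain ⟨N, hN⟩ := exists_pow_smul_eq_zero_of_eval σ hσ hd (sub_mul_le h ha) i
        ((fam_apply σ h z hz i).symm.trans h0)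
      exact ⟨N, by rw [← hz, ← map_smul]; exact (Submodule.Quotient.mk_eq_zero _).mpr hN⟩
    · exact ⟨0, by rw [eq_zero_of_not_le σ hd h z, smul_zero]⟩
  · refine eq_top_iff.mpr ((hgen i).ge.trans (Submodule.span_mono ?_))
    rintro _ ⟨j, rfl⟩
    have he : Pi.single j (1 : A) ∈ freeGr 𝒜 J (K * d) (K * d) := by
      rw [mem_freeGr]
      refine ⟨fun _ j' => ?_, fun h => absurd le_rfl h⟩
      rw [Nat.sub_self]
      by_cases h : j' = j
      · subst h; rw [Pi.single_eq_same]; exact SetLike.GradedOne.one_mem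
      · rw [Pi.single_eq_of_ne h]; exact zero_mem _
    refine ⟨K, ⟨_, mkQ_mem_quotGr 𝒜 (K * d) he⟩, ?_⟩
    change fam hg σ K _ i = σ j i
    have he' : ∀ j', (Pi.single j (1 : A) : J → A) j' ∈ 𝒜 ((K - K) * d) := fun j' => by
      rw [Nat.sub_self, zero_mul]
      by_cases h : j' = j
      · subst h; rw [Pi.single_eq_same]; exact SetLike.GradedOne.one_mem
      · rw [Pi.single_eq_of_ne h]; exact zero_mem _
    rw [fam_apply σ le_rfl ⟨_, mkQ_mem_quotGr 𝒜 (K * d) he⟩ rfl, eval_of_mem σ he', Finset.sum_eq_single j]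
    · rw [fr_congr 𝒜 (hg i) rfl (b := g i ^ (K - K)) (by rw [Pi.single_eq_same, Nat.sub_self, pow_zero]) _
        (pow_mem_mul 𝒜 (hg i) _), fr_one, one_smul]
    · intro j' _ hne
      rw [fr_congr 𝒜 (hg i) rfl (Pi.single_eq_of_ne hne 1) _ (zero_mem _), fr_zero, zero_smul]
    · exact fun h => absurd (Finset.mem_univ j) h

theorem exists_graded [IsNoetherianRing A] (F : (Proj 𝒜).Modules) (hF : Coh.IsCoh F) :
    ∃ (M : Type u) (_ : AddCommGroup M) (_ : Module R M) (_ : Module A M) (_ : IsScalarTower R A M)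
      (ℳ : ℕ → Submodule R M) (_ : DirectSum.Decomposition ℳ) (_ : SetLike.GradedSMul 𝒜 ℳ),
      Module.Finite A M ∧ Nonempty (GrTilde.tilde 𝒜 ℳ 0 ≅ F) := by
  classical
  haveI := hF.1
  obtain ⟨d, hd, hcov, hcpt⟩ := ProjCohTwLib.exists_degree 𝒜
  obtain ⟨s, hs⟩ := isCompact_univ.elim_finite_subcover
    (fun e : 𝒜 d => (Proj.basicOpen 𝒜 (e : A) : Set (Proj 𝒜))) (fun e => (Proj.basicOpen 𝒜 (e : A)).isOpen)
    (fun x _ => by obtain ⟨e, he, hex⟩ := hcov x; exact Set.mem_iUnion.mpr ⟨⟨e, he⟩, hex⟩)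
  let g : {e // e ∈ s} → A := fun i => (i.1 : A)
  have hg : ∀ i, g i ∈ 𝒜 d := fun i => i.1.2
  have hcov' : ∀ x : Proj 𝒜, ∃ i, x ∈ Proj.basicOpen 𝒜 (g i) := fun x => by
    obtain ⟨e, he, hxe⟩ := Set.mem_iUnion₂.mp (hs (Set.mem_univ x))
    exact ⟨⟨e, he⟩, hxe⟩
  have hfin : ∀ i, Module.Finite Γ(Proj 𝒜, Proj.basicOpen 𝒜 (g i)) Γ(F, Proj.basicOpen 𝒜 (g i)) :=
    fun i => QCohLib.finite_of_isFT hF.2 (Proj.isAffineOpen_basicOpen 𝒜 _ (hg i) hd)
  choose T hT using fun i => Module.finite_def.mp (hfin i)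
  let J : Type u := Σ i : {e // e ∈ s}, {w // w ∈ T i}
  choose K₀ hK₀ using fun p : J => exists_extension_of_le hd hg F p.1 p.2.1
  let K := Finset.univ.sup K₀
  choose σ hσ hσi using fun p : J => hK₀ p K (Finset.le_sup (Finset.mem_univ p))
  let := (isInternal_quotGr 𝒜 J (K * d) (rel hg σ)
    fun a ha n => freePr_mem_rel σ (K * d) ha n).chooseDecomposition
  refine ⟨(J → A) ⧸ rel hg σ, inferInstance, inferInstance, inferInstance, inferInstance,
    quotGr 𝒜 J (K * d) (rel hg σ), inferInstance, inferInstance, inferInstance,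
    nonempty_iso σ hσ hd hcov' fun i => eq_top_iff.mpr ((hT i).ge.trans (Submodule.span_mono fun w hw => ?_))⟩
  exact ⟨⟨i, w, hw⟩, hσi ⟨i, w, hw⟩⟩

end GrTildeGen

end
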