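import Groth.Agent.GrTildeGenLib.Ext

/-!
# A finite graded module with prescribed twisted sections
-/

set_option autoImplicit false
set_option backward.isDefEq.respectTransparency false
set_option backward.isDefEq.respectTransparency.types false
universe u

open CategoryTheory CategoryTheory.Limits AlgebraicGeometry TopologicalSpace Opposite TopCat HomogeneousLocalization
open AmpleLib GrTildeLib

noncomputable section

namespace GrTildeGen

variable {R A : Type u} [CommRing R] [CommRing A] [Algebra R A] (𝒜 : ℕ → Submodule R A) [GradedAlgebra 𝒜]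

open scoped Classical in
/-- the projection of `A` to the degree `n` -/
def pr (n : ℕ) : A →+ A := AddMonoidHom.mk' (fun a => (DirectSum.decompose 𝒜 a n : A)) fun a b => by
  rw [DirectSum.decompose_add, DirectSum.add_apply, Submodule.coe_add]

theorem pr_mem (n : ℕ) (a : A) : pr 𝒜 n a ∈ 𝒜 n := SetLike.coe_mem _

theorem pr_self {n : ℕ} {a : A} (ha : a ∈ 𝒜 n) : pr 𝒜 n a = a := by
  classical
  exact DirectSum.decompose_of_mem_same 𝒜 ha

theorem pr_ne {m n : ℕ} {a : A} (ha : a ∈ 𝒜 m) (h : m ≠ n) : pr 𝒜 n a = 0 := by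
  classical
  exact DirectSum.decompose_of_mem_ne 𝒜 ha h

theorem pr_mul_of_le {m n : ℕ} {b : A} (hb : b ∈ 𝒜 m) (h : m ≤ n) (a : A) :
    pr 𝒜 n (a * b) = pr 𝒜 (n - m) a * b := by
  classical
  exact DirectSum.coe_decompose_mul_of_right_mem_of_le 𝒜 hb h

theorem pr_mul_of_not_le {m n : ℕ} {b : A} (hb : b ∈ 𝒜 m) (h : ¬ m ≤ n) (a : A) :
    pr 𝒜 n (a * b) = 0 := by
  classical
  exact DirectSum.coe_decompose_mul_of_right_mem_of_not_le 𝒜 hb h

section Free

variable (J : Type u) (c : ℕ)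

/-- the pieces of the free module with generators in degree `c` -/
def freeGr (n : ℕ) : Submodule R (J → A) where
  carrier := {a | ∀ j, a j ∈ if c ≤ n then 𝒜 (n - c) else (⊥ : Submodule R A)}
  zero_mem' _ := zero_mem _
  add_mem' ha hb j := add_mem (ha j) (hb j)
  smul_mem' r _ ha j := Submodule.smul_mem _ r (ha j)

theorem mem_freeGr {n : ℕ} {a : J → A} : a ∈ freeGr 𝒜 J c n ↔
    (c ≤ n → ∀ j, a j ∈ 𝒜 (n - c)) ∧ (¬ c ≤ n → a = 0) := by
  by_cases h : c ≤ n
  · simp only [freeGr, if_pos h]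
    exact ⟨fun ha => ⟨fun _ => ha, fun h' => absurd h h'⟩, fun ha => ha.1 h⟩
  · simp only [freeGr, if_neg h]
    exact ⟨fun ha => ⟨fun h' => absurd h' h, fun _ => funext fun j => (Submodule.mem_bot R).mp (ha j)⟩,
      fun ha j => by rw [ha.2 h]; exact zero_mem _⟩

theorem smul_mem_freeGr {l n : ℕ} {b : A} (hb : b ∈ 𝒜 l) {a : J → A} (ha : a ∈ freeGr 𝒜 J c n) :
    b • a ∈ freeGr 𝒜 J c (l + n) := by
  rw [mem_freeGr] at ha ⊢
  by_cases h : c ≤ n
  · refine ⟨fun _ j => ?_, fun h' => absurd (le_add_left h) h'⟩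
    rw [show l + n - c = l + (n - c) by omega]
    exact SetLike.mul_mem_graded hb (ha.1 h j)
  · rw [ha.2 h, smul_zero]
    exact ⟨fun _ j => zero_mem _, fun _ => rfl⟩

/-- the projections of the free module -/
def freePr (n : ℕ) : (J → A) →+ (J → A) :=
  AddMonoidHom.mk' (fun a j => if c ≤ n then pr 𝒜 (n - c) (a j) else 0) fun a b => funext fun j => by
    by_cases h : c ≤ n
    · simp only [if_pos h, Pi.add_apply, map_add]
    · simp only [if_neg h, Pi.add_apply, add_zero]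

theorem freePr_mem (n : ℕ) (a : J → A) : freePr 𝒜 J c n a ∈ freeGr 𝒜 J c n := by
  rw [mem_freeGr]
  exact ⟨fun h j => by simp only [freePr, AddMonoidHom.mk'_apply, if_pos h]; exact pr_mem 𝒜 _ _,
    fun h => funext fun j => by simp only [freePr, AddMonoidHom.mk'_apply, if_neg h, Pi.zero_apply]⟩

theorem freePr_self {n : ℕ} {a : J → A} (ha : a ∈ freeGr 𝒜 J c n) : freePr 𝒜 J c n a = a := by
  rw [mem_freeGr] at ha
  funext j
  by_cases h : c ≤ n
  · simp only [freePr, AddMonoidHom.mk'_apply, if_pos h]; exact pr_self 𝒜 (ha.1 h j)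
  · simp only [freePr, AddMonoidHom.mk'_apply, if_neg h, ha.2 h, Pi.zero_apply]

theorem freePr_ne {m n : ℕ} {a : J → A} (ha : a ∈ freeGr 𝒜 J c m) (hmn : m ≠ n) : freePr 𝒜 J c n a = 0 := by
  rw [mem_freeGr] at ha
  funext j
  by_cases h : c ≤ n
  · simp only [freePr, AddMonoidHom.mk'_apply, if_pos h, Pi.zero_apply]
    by_cases h' : c ≤ m
    · exact pr_ne 𝒜 (ha.1 h' j) (by omega)
    · rw [ha.2 h']; exact map_zero _
  · simp only [freePr, AddMonoidHom.mk'_apply, if_neg h, Pi.zero_apply]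

theorem exists_sum_freePr [Finite J] (a : J → A) : ∃ s : Finset ℕ, ∑ n ∈ s, freePr 𝒜 J c n a = a := by
  classical
  let := Fintype.ofFinite J
  let t : Finset ℕ := Finset.univ.biUnion fun j => (DirectSum.decompose 𝒜 (a j)).support
  refine ⟨t.image (c + ·), ?_⟩
  rw [Finset.sum_image (fun x _ y _ h => Nat.add_left_cancel h)]
  funext j
  rw [Finset.sum_apply]
  simp only [freePr, AddMonoidHom.mk'_apply, if_pos (Nat.le_add_right c _), Nat.add_sub_cancel_left]
  conv_rhs => rw [← DirectSum.sum_support_decompose 𝒜 (a j)]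
  refine (Finset.sum_subset (fun x hx => Finset.mem_biUnion.mpr ⟨j, Finset.mem_univ _, hx⟩) fun x _ hx => ?_).symm
  rw [DFinsupp.notMem_support_iff] at hx
  exact congrArg Subtype.val hx

end Free

section Quot

variable (J : Type u) [Finite J] (c : ℕ) (S : Submodule A (J → A))

/-- the induced pieces of the quotient -/
def quotGr (n : ℕ) : Submodule R ((J → A) ⧸ S) := (freeGr 𝒜 J c n).map (S.mkQ.restrictScalars R)

instance quotGrSMul : SetLike.GradedSMul 𝒜 (quotGr 𝒜 J c S) :=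
  ⟨fun _ _ b _ hb hz => by
    obtain ⟨a, ha, rfl⟩ := hz
    exact ⟨b • a, smul_mem_freeGr 𝒜 J c hb ha, map_smul S.mkQ b a⟩⟩

variable {J S} in
theorem mkQ_mem_quotGr {n : ℕ} {a : J → A} (ha : a ∈ freeGr 𝒜 J c n) : S.mkQ a ∈ quotGr 𝒜 J c S n :=
  ⟨a, ha, rfl⟩

theorem isInternal_quotGr (hS : ∀ a ∈ S, ∀ n, freePr 𝒜 J c n a ∈ S) :
    DirectSum.IsInternal (quotGr 𝒜 J c S) := by
  classical
  let q : ℕ → ((J → A) ⧸ S) →+ ((J → A) ⧸ S) := fun n =>
    QuotientAddGroup.lift S.toAddSubgroup (S.mkQ.toAddMonoidHom.comp (freePr 𝒜 J c n)) fun a ha =>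
      (Submodule.Quotient.mk_eq_zero S).mpr (hS a ha n)
  have hself : ∀ n, ∀ z ∈ quotGr 𝒜 J c S n, q n z = z := by
    rintro n _ ⟨a, ha, rfl⟩
    exact congrArg S.mkQ (freePr_self 𝒜 J c ha)
  have hne : ∀ m n, m ≠ n → ∀ z ∈ quotGr 𝒜 J c S m, q n z = 0 := by
    rintro m n hmn _ ⟨a, ha, rfl⟩
    exact (congrArg S.mkQ (freePr_ne 𝒜 J c ha hmn)).trans (map_zero _)
  have key : ∀ (x : DirectSum ℕ fun n => quotGr 𝒜 J c S n) (n : ℕ),
      q n (DirectSum.coeAddMonoidHom (quotGr 𝒜 J c S) x) = (x n : (J → A) ⧸ S) := by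
    intro x n
    induction x using DirectSum.induction_on with
    | zero => simp
    | of m z =>
      rw [DirectSum.coeAddMonoidHom_of]
      by_cases h : m = n
      · subst h; rw [DirectSum.of_eq_same]; exact hself _ _ z.2
      · rw [DirectSum.of_eq_of_ne _ _ _ (Ne.symm h)]; exact hne m n h _ z.2
    | add x y hx hy => rw [map_add, map_add, hx, hy, DirectSum.add_apply, Submodule.coe_add]
  constructor
  · refine fun x y hxy => DFinsupp.ext fun n => Subtype.ext ?_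
    rw [← key x n, ← key y n]
    exact congrArg (q n) hxy
  · intro z
    obtain ⟨a, rfl⟩ := Submodule.mkQ_surjective S z
    obtain ⟨s, hs⟩ := exists_sum_freePr 𝒜 J c a
    refine ⟨∑ n ∈ s, DirectSum.of (fun n => quotGr 𝒜 J c S n) n
      ⟨S.mkQ (freePr 𝒜 J c n a), mkQ_mem_quotGr 𝒜 c (freePr_mem 𝒜 J c n a)⟩, ?_⟩
    rw [map_sum]
    simp only [DirectSum.coeAddMonoidHom_of]
    rw [← map_sum, hs]

end Quot

section Rel

variable {𝒜} {d : ℕ} {ι : Type u} {g : ι → A} {hg : ∀ i, g i ∈ 𝒜 d} {F : (Proj 𝒜).Modules}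
  {J : Type u} [Fintype J] (σ : J → ∀ i, Γ(F, Proj.basicOpen 𝒜 (g i)))

variable (hg) in
/-- the value of a vector of coefficients in level `k` -/
def eval (k : ℕ) (i : ι) : (J → A) →+ Γ(F, Proj.basicOpen 𝒜 (g i)) :=
  AddMonoidHom.mk' (fun a => ∑ j, fr 𝒜 (hg i) (pr_mem 𝒜 (k * d) (a j)) • σ j i) fun a b => by
    rw [← Finset.sum_add_distrib]
    refine Finset.sum_congr rfl fun j _ => ?_
    rw [← add_smul, ← fr_add]
    exact congrArg (· • _) (fr_congr 𝒜 (hg i) rfl (map_add _ _ _) _ _)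

theorem eval_of_mem {k : ℕ} {a : J → A} (ha : ∀ j, a j ∈ 𝒜 (k * d)) (i : ι) :
    eval hg σ k i a = ∑ j, fr 𝒜 (hg i) (ha j) • σ j i :=
  Finset.sum_congr rfl fun j _ => congrArg (· • _) (fr_congr 𝒜 (hg i) rfl (pr_self 𝒜 (ha j)) _ _)

theorem eval_eq_zero_of_forall {k : ℕ} {a : J → A} (h : ∀ j, pr 𝒜 (k * d) (a j) = 0) (i : ι) :
    eval hg σ k i a = 0 :=
  Finset.sum_eq_zero fun j _ => by
    rw [fr_congr 𝒜 (hg i) rfl (h j) _ (zero_mem _), fr_zero, zero_smul]

theorem eval_smul {l k m : ℕ} (hm : l + k = m) {b : A} (hb : b ∈ 𝒜 (l * d)) (a : J → A) (i : ι) :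
    eval hg σ m i (b • a) = fr 𝒜 (hg i) hb • eval hg σ k i a := by
  subst hm
  simp only [eval, AddMonoidHom.mk'_apply, Finset.smul_sum, smul_smul]
  refine Finset.sum_congr rfl fun j _ => congrArg (· • _) ?_
  rw [← fr_mul 𝒜 (hg i) hb (pr_mem 𝒜 (k * d) (a j)) (mul_mem_mul 𝒜 hb (pr_mem 𝒜 _ _))]
  refine fr_congr 𝒜 (hg i) rfl ?_ _ _
  change pr 𝒜 ((l + k) * d) (b * a j) = b * pr 𝒜 (k * d) (a j)
  have hle : l * d ≤ (l + k) * d := Nat.mul_le_mul_right d (Nat.le_add_right l k)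
  rw [mul_comm b, pr_mul_of_le 𝒜 hb hle, mul_comm b]
  rw [add_mul, Nat.add_sub_cancel_left]

variable (hg) in
/-- the relations -/
def rel : Submodule A (J → A) where
  carrier := {a | ∀ (b : A) (k : ℕ) (i : ι), eval hg σ k i (b • a) = 0}
  zero_mem' b k i := by rw [smul_zero, map_zero]
  add_mem' ha hb b k i := by rw [smul_add, map_add, ha b k i, hb b k i, add_zero]
  smul_mem' x a ha b k i := by rw [smul_smul]; exact ha _ k i

theorem mem_rel {a : J → A} : a ∈ rel hg σ ↔ ∀ (b : A) (k : ℕ) (i : ι), eval hg σ k i (b • a) = 0 := Iff.rfl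

theorem eval_eq_zero_of_mem_rel {a : J → A} (ha : a ∈ rel hg σ) (k : ℕ) (i : ι) : eval hg σ k i a = 0 := by
  simpa using ha 1 k i

theorem freePr_mem_rel (c : ℕ) {a : J → A} (ha : a ∈ rel hg σ) (n : ℕ) :
    freePr 𝒜 J c n a ∈ rel hg σ := by
  intro b k i
  by_cases h : c ≤ n
  swap
  · rw [show freePr 𝒜 J c n a = 0 from funext fun j => by
      simp only [freePr, AddMonoidHom.mk'_apply, if_neg h, Pi.zero_apply], smul_zero, map_zero]
  by_cases hle : n - c ≤ k * d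
  · refine Eq.trans (Finset.sum_congr rfl fun j _ => congrArg (· • _) (fr_congr 𝒜 (hg i) rfl ?_ _ _))
      (ha (pr 𝒜 (k * d - (n - c)) b) k i)
    change pr 𝒜 (k * d) (b * freePr 𝒜 J c n a j) = pr 𝒜 (k * d) (pr 𝒜 (k * d - (n - c)) b * a j)
    simp only [freePr, AddMonoidHom.mk'_apply, if_pos h]
    rw [pr_mul_of_le 𝒜 (pr_mem 𝒜 _ _) hle, mul_comm _ (a j), pr_mul_of_le 𝒜 (pr_mem 𝒜 _ _) (Nat.sub_le _ _),
      show k * d - (k * d - (n - c)) = n - c by omega, mul_comm]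
  · refine eval_eq_zero_of_forall σ (fun j => ?_) i
    change pr 𝒜 (k * d) (b * freePr 𝒜 J c n a j) = 0
    simp only [freePr, AddMonoidHom.mk'_apply, if_pos h]
    exact pr_mul_of_not_le 𝒜 (pr_mem 𝒜 _ _) hle b

end Rel

end GrTildeGen

end
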