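import Groth.Agent.GrTildeGenLib.Fam
import Groth.Agent.GrTildeLib.IsoCrit

/-!
# The morphism `M~ ⟶ F`, charts of degree `d`
-/

set_option autoImplicit false
set_option backward.isDefEq.respectTransparency false
set_option backward.isDefEq.respectTransparency.types false
universe u

open CategoryTheory CategoryTheory.Limits AlgebraicGeometry TopologicalSpace Opposite TopCat HomogeneousLocalization
open AmpleLib GrTildeLib

noncomputable section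

namespace GrTildeGen

variable {R A : Type u} [CommRing R] [CommRing A] [Algebra R A] {𝒜 : ℕ → Submodule R A} [GradedAlgebra 𝒜] {d : ℕ}
  {M : Type u} [AddCommGroup M] [Module R M] [Module A M] {ℳ : ℕ → Submodule R M} [SetLike.GradedSMul 𝒜 ℳ]
  [DirectSum.Decomposition ℳ]
  {ι : Type u} {g : ι → A} {hg : ∀ i, g i ∈ 𝒜 d} {F : (Proj 𝒜).Modules} (D : GrData hg F ℳ)

omit [DirectSum.Decomposition ℳ] in
/-- one fraction with degree divisible by `d` around each point -/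
theorem exists_repd (hd : 0 < d) {W : (Proj 𝒜).Opens} (t : Γ(GrTilde.tilde 𝒜 ℳ 0, W)) (x : W) :
    ∃ (V : (Proj 𝒜).Opens) (_ : x.1 ∈ V) (hW : V ≤ W) (k : ℕ) (z : ℳ (k * d)) (s : A) (_ : s ∈ 𝒜 (k * d))
      (hnin : ∀ v : V, s ∉ v.1.asHomogeneousIdeal),
        ∀ v : V, val t ⟨v.1, hW v.2⟩ = LocalizedModule.mk (z : M) ⟨s, hnin v⟩ := by
  obtain ⟨V, hxV, hW, i, j, m, s, hm, hs, hnin, hdeg, hval⟩ := val_exists t x
  obtain ⟨e, rfl⟩ : ∃ e, d = e + 1 := ⟨d - 1, by omega⟩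
  have h1 : s ^ e • m ∈ ℳ (e * j + i) :=
    SetLike.GradedSMul.smul_mem (by simpa [smul_eq_mul] using SetLike.pow_mem_graded e hs) hm
  refine ⟨V, hxV, hW, j, ⟨s ^ e • m, ?_⟩, s ^ (e + 1), ?_,
    fun v h => hnin v (v.1.isPrime.mem_of_pow_mem _ h), fun v => ?_⟩
  · rcases hdeg with h | h
    · rwa [show j * (e + 1) = e * j + i by rw [show i = j by omega]; ring]
    · rw [h, smul_zero]; exact zero_mem _
  · simpa [smul_eq_mul, mul_comm] using SetLike.pow_mem_graded (e + 1) hs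
  · refine (hval v).trans (mk_congr ?_)
    change s ^ (e + 1) • m = s • s ^ e • m
    rw [smul_smul, ← pow_succ']

omit [DirectSum.Decomposition ℳ] in
lemma smul_mem_mul {l k : ℕ} {a : A} (ha : a ∈ 𝒜 (l * d)) {z : M} (hz : z ∈ ℳ (k * d)) :
    a • z ∈ ℳ ((l + k) * d) := by
  rw [add_mul]; exact SetLike.GradedSMul.smul_mem ha hz

omit [DirectSum.Decomposition ℳ] [SetLike.GradedSMul 𝒜 ℳ] in
lemma ν_congr {p q : ℕ} {u : ℳ (p * d)} {w : ℳ (q * d)} (hpq : p = q) (huw : (u : M) = w) (i : ι) :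
    D.ν p u i = D.ν q w i := by
  subst hpq; rw [Subtype.ext huw]

/-- `y` is the image of `t` -/
def IsImg {W : (Proj 𝒜).Opens} (t : Γ(GrTilde.tilde 𝒜 ℳ 0, W)) (y : Γ(F, W)) : Prop :=
  ∀ (i : ι) (k : ℕ) (z : ℳ (k * d)) (s : A) (hs : s ∈ 𝒜 (k * d)) (V : (Proj 𝒜).Opens) (hW : V ≤ W)
    (hD : V ≤ Proj.basicOpen 𝒜 (g i)) (hnin : ∀ v : V, s ∉ v.1.asHomogeneousIdeal),
    (∀ v : V, val t ⟨v.1, hW v.2⟩ = LocalizedModule.mk (z : M) ⟨s, hnin v⟩) →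
      resX hD (fr 𝒜 (hg i) hs) • res F hW y = res F hD (D.ν k z i)

theorem IsImg.mono {W W' : (Proj 𝒜).Opens} (h : W' ≤ W) {t : Γ(GrTilde.tilde 𝒜 ℳ 0, W)} {y : Γ(F, W)}
    (hy : IsImg D t y) : IsImg D ((GrTilde.tilde 𝒜 ℳ 0).presheaf.map (homOfLE h).op t) (res F h y) :=
  fun i k z s hs V hW hD hnin hv => by
    rw [res_res]
    exact hy i k z s hs V (hW.trans h) hD hnin fun v => hv v

theorem eq_of_locally {W : (Proj 𝒜).Opens} {a b : Γ(F, W)}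
    (h : ∀ x : W, ∃ (V : (Proj 𝒜).Opens) (_ : x.1 ∈ V) (hV : V ≤ W), res F hV a = res F hV b) : a = b := by
  choose V hxV hV he using h
  exact TopCat.Sheaf.eq_of_locally_eq' ⟨F.presheaf, F.isSheaf⟩ V W (fun x => homOfLE (hV x))
    (fun x hx => Opens.mem_iSup.mpr ⟨⟨x, hx⟩, hxV ⟨x, hx⟩⟩) a b fun x => he x

theorem isImg_of_rep (hd : 0 < d) {V : (Proj 𝒜).Opens} {t : Γ(GrTilde.tilde 𝒜 ℳ 0, V)} {i : ι} {k : ℕ} (z : ℳ (k * d)) {s : A}
    (hs : s ∈ 𝒜 (k * d)) (hD : V ≤ Proj.basicOpen 𝒜 (g i)) (hnin : ∀ v : V, s ∉ v.1.asHomogeneousIdeal)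
    (ht : ∀ v : V, val t v = LocalizedModule.mk (z : M) ⟨s, hnin v⟩) {y : Γ(F, V)}
    (hy : resX hD (fr 𝒜 (hg i) hs) • y = res F hD (D.ν k z i)) : IsImg D t y := by
  intro j k' z' s' hs' V' hW hD' hnin' ht'
  have hDi : V' ≤ Proj.basicOpen 𝒜 (g i) := hW.trans hD
  -- change of chart
  rw [D.compat k' z' j i V' hD' hDi, show resX hD' (fr 𝒜 (hg j) hs') =
    resX hD' (fr 𝒜 (hg j) (mem_one_mul 𝒜 (hg i))) ^ k' * resX hDi (fr 𝒜 (hg i) hs') from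
      fr_change 𝒜 (hg i) (hg j) hs' hD' hDi, mul_smul]
  congr 1
  refine eq_of_locally fun x => ?_
  obtain ⟨e, f, he, hf, hxf, hfV⟩ := exists_homogeneous_basicOpen 𝒜 x.2
  refine ⟨Proj.basicOpen 𝒜 f, hxf, hfV, ?_⟩
  have h1 : s' • (z : M) ∈ ℳ ((k' + k) * d) := smul_mem_mul hs' z.2
  have h2' : s • (z' : M) ∈ ℳ ((k + k') * d) := smul_mem_mul hs z'.2
  have h2 : s • (z' : M) ∈ ℳ ((k' + k) * d) := by rwa [add_comm k' k]
  obtain ⟨N, hN⟩ := exists_pow_smul_eq (ℳ := ℳ) he hf h1 h2 (fun y hy => hnin ⟨y, hW (hfV hy)⟩)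
    (fun y hy => hnin' ⟨y, hfV hy⟩) (fun y hy => (ht ⟨y, hW (hfV hy)⟩).symm.trans (ht' ⟨y, hfV hy⟩))
  have hfN : f ^ (d * N) ∈ 𝒜 ((N * e) * d) := by
    simpa [smul_eq_mul, mul_comm, mul_assoc, mul_left_comm] using SetLike.pow_mem_graded (d * N) hf
  replace hN : f ^ (d * N) • (s' • (z : M)) = f ^ (d * N) • (s • (z' : M)) := by
    have hle : N ≤ d * N := Nat.le_mul_of_pos_left N hd
    rw [← Nat.sub_add_cancel hle, pow_add, mul_smul, hN, ← mul_smul]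
  have m1 : f ^ (d * N) • (s' • (z : M)) ∈ ℳ ((N * e + (k' + k)) * d) := smul_mem_mul hfN h1
  have m2 : f ^ (d * N) • (s • (z' : M)) ∈ ℳ ((N * e + (k + k')) * d) := smul_mem_mul hfN h2'
  have e0 : D.ν (N * e + (k' + k)) ⟨_, m1⟩ i = D.ν (N * e + (k + k')) ⟨_, m2⟩ i :=
    ν_congr D (by rw [add_comm k' k]) hN i
  rw [D.smul _ _ _ hfN ⟨_, h1⟩ m1 i, D.smul _ _ _ hfN ⟨_, h2'⟩ m2 i, D.smul _ _ _ hs' z h1 i,
    D.smul _ _ _ hs z' h2' i] at e0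
  have hDf : Proj.basicOpen 𝒜 f ≤ Proj.basicOpen 𝒜 (g i) := hfV.trans hDi
  replace e0 := congrArg (res F hDf) e0
  simp only [res_smul] at e0
  have hu : IsUnit (resX hDf (fr 𝒜 (hg i) hfN)) :=
    isUnit_fr 𝒜 (hg i) hd hfN hDf fun w hw => w.2 (w.1.isPrime.mem_of_pow_mem _ hw)
  have hus : IsUnit (resX hDf (fr 𝒜 (hg i) hs)) :=
    isUnit_fr 𝒜 (hg i) hd hs hDf fun w => hnin ⟨w.1, hW (hfV w.2)⟩
  have e1 := hu.smul_left_cancel.mp e0
  have hy' := congrArg (res F (hfV.trans hW)) hy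
  rw [res_smul, res_res] at hy'
  change resX (hfV.trans hW) (resX hD _) • _ = _ at hy'
  rw [resX_resX] at hy'
  rw [res_smul, res_res, res_res]
  change resX hfV (resX hDi _) • _ = _
  rw [resX_resX]
  refine hus.smul_left_cancel.mp ?_
  rw [smul_comm, hy']
  exact e1

theorem IsImg.unique (hd : 0 < d) {W : (Proj 𝒜).Opens} (hcov : ∀ x : Proj 𝒜, ∃ i, x ∈ Proj.basicOpen 𝒜 (g i))
    {t : Γ(GrTilde.tilde 𝒜 ℳ 0, W)} {y y' : Γ(F, W)} (hy : IsImg D t y) (hy' : IsImg D t y') : y = y' := by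
  refine eq_of_locally fun x => ?_
  obtain ⟨V, hxV, hW, k, z, s, hs, hnin, hval⟩ := exists_repd hd t x
  obtain ⟨i, hi⟩ := hcov x.1
  refine ⟨V ⊓ Proj.basicOpen 𝒜 (g i), ⟨hxV, hi⟩, inf_le_left.trans hW, ?_⟩
  have h1 := hy i k z s hs _ (inf_le_left.trans hW) inf_le_right (fun v => hnin ⟨v.1, v.2.1⟩)
    (fun v => hval ⟨v.1, v.2.1⟩)
  have h2 := hy' i k z s hs _ (inf_le_left.trans hW) inf_le_right (fun v => hnin ⟨v.1, v.2.1⟩)
    (fun v => hval ⟨v.1, v.2.1⟩)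
  exact (isUnit_fr 𝒜 (hg i) hd hs inf_le_right fun v => hnin ⟨v.1, v.2.1⟩).smul_left_cancel.mp (h1.trans h2.symm)

theorem exists_isImg (hd : 0 < d) (hcov : ∀ x : Proj 𝒜, ∃ i, x ∈ Proj.basicOpen 𝒜 (g i)) {W : (Proj 𝒜).Opens}
    (t : Γ(GrTilde.tilde 𝒜 ℳ 0, W)) : ∃! y : Γ(F, W), IsImg D t y := by
  choose V hxV hW k z s hs hnin hval using exists_repd hd t
  choose i hi using fun x : W => hcov x.1
  let V' := fun x : W => V x ⊓ Proj.basicOpen 𝒜 (g (i x))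
  have hu : ∀ x, IsUnit (resX (inf_le_right : V' x ≤ _) (fr 𝒜 (hg (i x)) (hs x))) :=
    fun x => isUnit_fr 𝒜 (hg (i x)) hd (hs x) inf_le_right fun v => hnin x ⟨v.1, v.2.1⟩
  let y : ∀ x, Γ(F, V' x) := fun x => (↑(hu x).unit⁻¹ : Γ(Proj 𝒜, V' x)) •
    res F inf_le_right (D.ν (k x) (z x) (i x))
  have hy : ∀ x, IsImg D ((GrTilde.tilde 𝒜 ℳ 0).presheaf.map
      (homOfLE (inf_le_left.trans (hW x) : V' x ≤ W)).op t) (y x) := fun x =>
    isImg_of_rep D hd (z x) (hs x) inf_le_right (fun v => hnin x ⟨v.1, v.2.1⟩) (fun v => hval x ⟨v.1, v.2.1⟩)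
      (by rw [smul_smul, IsUnit.mul_val_inv, one_smul])
  obtain ⟨Y, hY, -⟩ := TopCat.Sheaf.existsUnique_gluing' (F := ⟨F.presheaf, F.isSheaf⟩) V' W
    (fun x => homOfLE (inf_le_left.trans (hW x)))
    (fun x hx => Opens.mem_iSup.mpr ⟨⟨x, hx⟩, hxV _, hi _⟩) y
    (fun a b => IsImg.unique D hd hcov (W := V' a ⊓ V' b) ((hy a).mono D inf_le_left) ((hy b).mono D inf_le_right))
  refine ⟨Y, fun j k' z' s' hs' U hU hD hnin' hv => ?_, fun Y' hY' => ?_⟩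
  · refine eq_of_locally fun x => ?_
    let a : W := ⟨x.1, hU x.2⟩
    refine ⟨U ⊓ V' a, ⟨x.2, hxV a, hi a⟩, inf_le_left, ?_⟩
    have h1 := hy a j k' z' s' hs' (U ⊓ V' a) inf_le_right (inf_le_left.trans hD) (fun v => hnin' ⟨v.1, v.2.1⟩)
      (fun v => hv ⟨v.1, v.2.1⟩)
    rw [← show res F _ Y = y a from hY a, res_res] at h1
    rw [res_smul, res_res, res_res]
    change resX inf_le_left (resX hD _) • _ = _
    rw [resX_resX]
    exact h1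
  · refine eq_of_locally fun x => ⟨V' x, ⟨hxV x, hi x⟩, inf_le_left.trans (hW x), ?_⟩
    exact (IsImg.unique D hd hcov (hY'.mono D _) (hy x)).trans (hY x).symm

theorem exists_hom (hd : 0 < d) (hcov : ∀ x : Proj 𝒜, ∃ i, x ∈ Proj.basicOpen 𝒜 (g i)) :
    ∃ φ : GrTilde.tilde 𝒜 ℳ 0 ⟶ F, ∀ (W : (Proj 𝒜).Opens) (t : Γ(GrTilde.tilde 𝒜 ℳ 0, W)),
      IsImg D t (φ.app W t) := by
  classical
  choose β hβ hβu using fun W t => exists_isImg D hd hcov (W := W) t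
  have hadd : ∀ (W : (Proj 𝒜).Opens) (t t' : Γ(GrTilde.tilde 𝒜 ℳ 0, W)), β W (t + t') = β W t + β W t' := by
    intro W t t'
    refine eq_of_locally fun x => ?_
    obtain ⟨V, hxV, hW, k, z, s, hs, hnin, hval⟩ := exists_repd hd t x
    obtain ⟨V₂, hxV₂, hW₂, k₂, z₂, s₂, hs₂, hnin₂, hval₂⟩ := exists_repd hd t' x
    obtain ⟨i, hi⟩ := hcov x.1
    let U := V ⊓ V₂ ⊓ Proj.basicOpen 𝒜 (g i)
    have hUV : U ≤ V := inf_le_left.trans inf_le_left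
    have hUV₂ : U ≤ V₂ := inf_le_left.trans inf_le_right
    refine ⟨U, ⟨⟨hxV, hxV₂⟩, hi⟩, hUV.trans hW, ?_⟩
    have h1' : s₂ • (z : M) ∈ ℳ ((k₂ + k) * d) := smul_mem_mul hs₂ z.2
    have h1 : s₂ • (z : M) ∈ ℳ ((k + k₂) * d) := by rwa [add_comm]
    have h2 : s • (z₂ : M) ∈ ℳ ((k + k₂) * d) := smul_mem_mul hs z₂.2
    refine IsImg.unique D hd hcov ((hβ W (t + t')).mono D _) (isImg_of_rep D hd (⟨_, add_mem h1 h2⟩ : ℳ ((k + k₂) * d))
      (mul_mem_mul 𝒜 hs hs₂) inf_le_right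
      (fun v h => (v.1.isPrime.mem_or_mem h).elim (hnin ⟨v.1, hUV v.2⟩) (hnin₂ ⟨v.1, hUV₂ v.2⟩)) (fun v => ?_) ?_)
    · rw [val_res, GrTildeLib.val_add]
      exact (congr_arg₂ (· + ·) (hval ⟨v.1, hUV v.2⟩) (hval₂ ⟨v.1, hUV₂ v.2⟩)).trans LocalizedModule.mk_add_mk
    · have e1 := hβ W t i k z s hs U (hUV.trans hW) inf_le_right (fun v => hnin ⟨v.1, hUV v.2⟩)
        (fun v => hval ⟨v.1, hUV v.2⟩)
      have e2 := hβ W t' i k₂ z₂ s₂ hs₂ U (hUV₂.trans hW₂) inf_le_right (fun v => hnin₂ ⟨v.1, hUV₂ v.2⟩)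
        (fun v => hval₂ ⟨v.1, hUV₂ v.2⟩)
      rw [show (⟨_, add_mem h1 h2⟩ : ℳ ((k + k₂) * d)) = ⟨_, h1⟩ + ⟨_, h2⟩ from rfl, map_add, Pi.add_apply,
        ν_congr D (p := k + k₂) (q := k₂ + k) (u := ⟨_, h1⟩) (w := ⟨_, h1'⟩) (add_comm _ _) rfl i,
        D.smul _ _ _ hs₂ z h1' i, D.smul _ _ _ hs z₂ h2 i, fr_mul 𝒜 (hg i) hs hs₂]
      simp only [map_add, resX, map_mul] at e1 e2 ⊢
      change _ = AmpleLib.res F _ (_ • _) + AmpleLib.res F _ (_ • _)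
      rw [res_smul, res_smul, smul_add, ← e1, ← e2, smul_smul, smul_smul]
      exact congr_arg₂ (· + ·) (congrArg (· • _) (mul_comm _ _)) rfl
  have hlin : ∀ (W : (Proj 𝒜).Opens) (r : Γ(Proj 𝒜, W)) (t : Γ(GrTilde.tilde 𝒜 ℳ 0, W)),
      β W (r • t) = r • β W t := by
    intro W r t
    refine eq_of_locally fun x => ?_
    obtain ⟨V, hxV, hW, k, z, s, hs, hnin, hval⟩ := exists_repd hd t x
    obtain ⟨V₂, hxV₂, ι₂, l, ⟨a₀, ha₀⟩, ⟨b₀, hb₀⟩, hbnin₀, hr₀⟩ := (show Twist.O (op W) from r).2 x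
    obtain ⟨e, rfl⟩ : ∃ e, d = e + 1 := ⟨d - 1, by omega⟩
    obtain ⟨a, ha, b, hb, hbnin, hr⟩ : ∃ (a : A) (_ : a ∈ 𝒜 (l * (e + 1))) (b : A) (_ : b ∈ 𝒜 (l * (e + 1)))
        (hbnin : ∀ v : V₂, b ∉ v.1.asHomogeneousIdeal), ∀ v : V₂,
          ((show Twist.O (op W) from r).1 (ι₂ v)).val = Localization.mk a ⟨b, hbnin v⟩ := by
      refine ⟨b₀ ^ e * a₀, ?_, b₀ ^ (e + 1), ?_, fun v h => hbnin₀ v (v.1.isPrime.mem_of_pow_mem _ h),
        fun v => ((congrArg HomogeneousLocalization.val (hr₀ v)).trans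
          (HomogeneousLocalization.val_mk _)).trans ?_⟩
      · rw [show l * (e + 1) = e * l + l by ring]
        exact SetLike.mul_mem_graded (by simpa [smul_eq_mul] using SetLike.pow_mem_graded e hb₀) ha₀
      · simpa [smul_eq_mul, mul_comm] using SetLike.pow_mem_graded (e + 1) hb₀
      · rw [Localization.mk_eq_mk_iff, Localization.r_iff_exists]
        refine ⟨1, ?_⟩
        simp only [OneMemClass.coe_one, one_mul]
        ring
    obtain ⟨i, hi⟩ := hcov x.1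
    let U := V ⊓ V₂ ⊓ Proj.basicOpen 𝒜 (g i)
    have hUV : U ≤ V := inf_le_left.trans inf_le_left
    have hUV₂ : U ≤ V₂ := inf_le_left.trans inf_le_right
    refine ⟨U, ⟨⟨hxV, hxV₂⟩, hi⟩, hUV.trans hW, ?_⟩
    have h1 : a • (z : M) ∈ ℳ ((l + k) * (e + 1)) := smul_mem_mul ha z.2
    refine IsImg.unique D hd hcov ((hβ W (r • t)).mono D _) (isImg_of_rep D hd (⟨_, h1⟩ : ℳ ((l + k) * (e + 1)))
      (mul_mem_mul 𝒜 hb hs) inf_le_right
      (fun v h => (v.1.isPrime.mem_or_mem h).elim (hbnin ⟨v.1, hUV₂ v.2⟩) (hnin ⟨v.1, hUV v.2⟩)) (fun v => ?_) ?_)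
    · rw [val_res, GrTildeLib.val_smul]
      refine (congr_arg₂ (fun c w => c • w) (hr ⟨v.1, hUV₂ v.2⟩) (hval ⟨v.1, hUV v.2⟩)).trans ?_
      exact LocalizedModule.mk_smul_mk _ _ _ _
    · have hbr : resX (inf_le_right : U ≤ _) (fr 𝒜 (hg i) hb) * resX (hUV.trans hW) r =
          resX (inf_le_right : U ≤ _) (fr 𝒜 (hg i) ha) := by
        refine Subtype.ext (funext fun v => HomogeneousLocalization.val_injective _ ?_)
        refine Eq.trans ?_ (val_fr 𝒜 (hg i) ha inf_le_right v).symm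
        change (((show Twist.O (op U) from resX _ (fr 𝒜 (hg i) hb)).1 v) *
          ((show Twist.O (op W) from r).1 ⟨v.1, hW (hUV v.2)⟩)).val = _
        rw [HomogeneousLocalization.val_mul, val_fr]
        refine (congrArg (_ * ·) (hr ⟨v.1, hUV₂ v.2⟩)).trans ?_
        rw [Localization.mk_mul, Localization.mk_eq_mk_iff, Localization.r_iff_exists]
        refine ⟨1, ?_⟩
        simp only [OneMemClass.coe_one, Submonoid.coe_mul, one_mul]
        ring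
      have e1 := hβ W t i k z s hs U (hUV.trans hW) inf_le_right (fun v => hnin ⟨v.1, hUV v.2⟩)
        (fun v => hval ⟨v.1, hUV v.2⟩)
      rw [D.smul _ _ _ ha z h1 i, res_smul, res_smul, ← e1, fr_mul 𝒜 (hg i) hb hs]
      change resX inf_le_right _ • (resX _ r • _) = resX _ _ • (resX _ _ • _)
      rw [resX, map_mul, smul_smul, smul_smul, ← hbr]
      exact congrArg (· • _) (mul_right_comm _ _ _)
  have hnat : ∀ {W W' : (Proj 𝒜).Opens} (h : W' ≤ W) (t : Γ(GrTilde.tilde 𝒜 ℳ 0, W)),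
      β W' ((GrTilde.tilde 𝒜 ℳ 0).presheaf.map (homOfLE h).op t) = res F h (β W t) :=
    fun h t => IsImg.unique D hd hcov (hβ _ _) ((hβ _ t).mono D h)
  refine ⟨⟨PresheafOfModules.homMk (M₁ := (GrTilde.tilde 𝒜 ℳ 0).val) (M₂ := F.val)
    { app := fun W => AddCommGrpCat.ofHom
        (AddMonoidHom.mk' (fun t : Γ(GrTilde.tilde 𝒜 ℳ 0, W.unop) => β W.unop t) (hadd W.unop))
      naturality := fun W W' j => by
        ext t
        exact hnat j.unop.le t }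
    (fun W r t => hlin W.unop r t)⟩, fun W t => hβ W t⟩

/-- the criterion -/
theorem exists_iso (hd : 0 < d) (hcov : ∀ x : Proj 𝒜, ∃ i, x ∈ Proj.basicOpen 𝒜 (g i)) [Coh.IsQCoh F]
    (hinj : ∀ (k : ℕ) (z : ℳ (k * d)) (i : ι), D.ν k z i = 0 → ∃ N : ℕ, g i ^ N • (z : M) = 0)
    (hsurj : ∀ i, Submodule.span Γ(Proj 𝒜, Proj.basicOpen 𝒜 (g i))
      {w | ∃ (k : ℕ) (z : ℳ (k * d)), D.ν k z i = w} = ⊤) :
    Nonempty (GrTilde.tilde 𝒜 ℳ 0 ≅ F) := by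
  obtain ⟨φ, hφ⟩ := exists_hom D hd hcov
  have := isQCoh_tilde (𝒜 := 𝒜) (ℳ := ℳ) 0
  have hone : ∀ (i : ι) (k : ℕ) (h : g i ^ k ∈ 𝒜 (k * d)),
      resX (le_refl (Proj.basicOpen 𝒜 (g i))) (fr 𝒜 (hg i) h) = 1 := fun i k h => by
    rw [fr_one, resX, map_one]
  have hgk : ∀ (i : ι) (k : ℕ), g i ^ k ∈ 𝒜 (k * d) := fun i k => pow_mem_mul 𝒜 (hg i) k
  have : IsIso φ := by
    refine isIso_of_bijective_cover φ (fun i => Proj.basicOpen 𝒜 (g i))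
      (fun i => Proj.isAffineOpen_basicOpen 𝒜 _ (hg i) hd)
      (eq_top_iff.mpr fun x _ => Opens.mem_iSup.mpr (hcov x)) fun i => ?_
    refine ⟨(injective_iff_map_eq_zero (φ.app _).hom).mpr fun t ht => ?_, fun w => ?_⟩
    · obtain ⟨k, j, m, hm, hj, hval⟩ := exists_eq_frac hd (hg i) t
      obtain rfl : j = k * d := by omega
      have h1 := hφ _ t i k ⟨m, hm⟩ _ (hgk i k) _ le_rfl le_rfl (fun v => pow_nin v k) hval
      rw [hone, one_smul, res_refl, res_refl, show φ.app _ t = 0 from ht] at h1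
      obtain ⟨N, hN⟩ := hinj k ⟨m, hm⟩ i h1.symm
      refine sec_ext fun v => (hval v).trans ?_
      rw [GrTildeLib.val_zero, ← LocalizedModule.zero_mk 1, LocalizedModule.mk_eq]
      refine ⟨⟨g i ^ N, pow_nin v N⟩, ?_⟩
      simp only [Submonoid.smul_def, OneMemClass.coe_one, one_smul, smul_zero]
      exact hN
    · have hle : Submodule.span Γ(Proj 𝒜, Proj.basicOpen 𝒜 (g i)) {w | ∃ (k : ℕ) (z : ℳ (k * d)), D.ν k z i = w} ≤
          LinearMap.range (φ.val.app (op (Proj.basicOpen 𝒜 (g i)))).hom := by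
        refine Submodule.span_le.mpr ?_
        rintro _ ⟨k, z, rfl⟩
        refine ⟨fracSec (n := 0) z.2 (hgk i k) (by simp) (fun v => pow_nin v k), ?_⟩
        have h1 := hφ (Proj.basicOpen 𝒜 (g i)) (fracSec (n := 0) z.2 (hgk i k) (by simp) (fun v => pow_nin v k))
          i k z _ (hgk i k) _ le_rfl le_rfl (fun v => pow_nin v k) fun v => rfl
        rw [hone, one_smul, res_refl, res_refl] at h1
        exact h1
      exact hle ((hsurj i).ge Submodule.mem_top)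
  exact ⟨asIso φ⟩

end GrTildeGen

end
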